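import Mathlib.RingTheory.Filtration
import Mathlib.RingTheory.HopkinsLevitzki
import Mathlib.RingTheory.Flat.Basic
import Mathlib.LinearAlgebra.TensorProduct.Basis
import Mathlib.LinearAlgebra.FreeModule.Basic
import Mathlib.RingTheory.Localization.AtPrime.Basic
import Mathlib.RingTheory.TensorProduct.Maps
import Mathlib.RingTheory.FiniteType
import Mathlib.RingTheory.FiniteStability
import Mathlib.RingTheory.Localization.Submodule
import Mathlib.RingTheory.Adjoin.FGBaseChange
import Mathlib.LinearAlgebra.TensorProduct.RightExactness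

/-!
# Fibrewise dense families are universally dense over Noetherian bases

A family of linear maps out of an algebra into flat modules which is jointly injective after tensoring with every field is
jointly injective after tensoring with every Noetherian algebra, provided the tensor product is Noetherian.
-/

universe u v

open TensorProduct IsLocalRing

namespace Groth.Agent.DenseLib

variable {A : Type u} [CommRing A]

/-- Joint injectivity over a field survives field extensions. -/
theorem inj_of_field {K₀ K : Type u} [Field K₀] [Field K] [Algebra A K₀] [Algebra A K] [Algebra K₀ K]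
    [IsScalarTower A K₀ K] {B : Type u} [AddCommGroup B] [Module A B] {ι : Type v} {C : ι → Type u}
    [∀ j, AddCommGroup (C j)] [∀ j, Module A (C j)] (φ : ∀ j, B →ₗ[A] C j)
    (h : ∀ y : K₀ ⊗[A] B, (∀ j, (φ j).lTensor K₀ y = 0) → y = 0)
    (y : K ⊗[A] B) (hy : ∀ j, (φ j).lTensor K y = 0) : y = 0 := by
  classical
  let b := Module.Free.chooseBasis K₀ K
  let e : K ⊗[A] B ≃ₗ[K₀] K ⊗[K₀] (K₀ ⊗[A] B) := (AlgebraTensorModule.cancelBaseChange A K₀ K₀ K B).symm
  suffices ∀ i, (equivFinsuppOfBasisLeft b (e y)) i = 0 by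
    apply e.injective
    apply (equivFinsuppOfBasisLeft b).injective
    ext i
    simpa using this i
  intro i
  refine h _ fun j => ?_
  have key : ∀ z : K ⊗[A] B, (φ j).lTensor K₀ ((equivFinsuppOfBasisLeft b (e z)) i) =
      ((b.coord i).restrictScalars A).rTensor (C j) ((φ j).lTensor K z) := fun z => by
    induction z using TensorProduct.induction_on with
    | zero => simp
    | add p q hp hq => simp only [map_add, Finsupp.add_apply, hp, hq]
    | tmul k x => simp [e, equivFinsuppOfBasisLeft_apply_tmul_apply, TensorProduct.smul_tmul']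
  rw [key, hy, map_zero]

/-- The Artinian local case. -/
theorem inj_of_artinian {R : Type u} [CommRing R] [IsArtinianRing R] [IsLocalRing R] [Algebra A R]
    {B : Type u} [CommRing B] [Algebra A B] {ι : Type v} {C : ι → Type u}
    [∀ j, AddCommGroup (C j)] [∀ j, Module A (C j)] [∀ j, Module.Flat A (C j)] (φ : ∀ j, B →ₗ[A] C j)
    (h : ∀ (K : Type u) [Field K] [Algebra A K] (y : K ⊗[A] B), (∀ j, (φ j).lTensor K y = 0) → y = 0)
    (x : R ⊗[A] B) (hx : ∀ j, (φ j).lTensor R x = 0) : x = 0 := by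
  classical
  let inc : R →+* R ⊗[A] B := Algebra.TensorProduct.includeLeftRingHom
  obtain ⟨J, hJ, hmin⟩ := (wellFounded_lt : WellFounded (α := Ideal R) (· < ·)).has_min
    {J : Ideal R | x ∈ J.map inc} ⟨⊤, show x ∈ Ideal.map inc ⊤ by rw [Ideal.map_top]; trivial⟩
  by_cases hJ0 : J = ⊥
  · subst hJ0
    simpa using (show x ∈ Ideal.map inc (⊥ : Ideal R) from hJ)
  exfalso
  obtain ⟨J', hJ', hmax⟩ := exists_maximal_of_wellFoundedGT (fun I : Ideal R => I < J) ⟨⊥, bot_lt_iff_ne_bot.mpr hJ0⟩
  obtain ⟨ε, hεJ, hεJ'⟩ := SetLike.exists_of_lt hJ'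
  have hm : ∀ a ∈ maximalIdeal R, a * ε ∈ J' := fun a ha => by
    by_contra hne
    have hlt : J' < J' ⊔ Ideal.span {a * ε} := left_lt_sup.mpr fun hle => hne (hle (Ideal.mem_span_singleton_self _))
    have hle : J' ⊔ Ideal.span {a * ε} ≤ J :=
      sup_le hJ'.le ((Ideal.span_singleton_le_iff_mem _).mpr (Ideal.mul_mem_left _ _ hεJ))
    rcases hle.lt_or_eq with hlt' | heq
    · exact absurd (hmax hlt' hlt.le) (not_le_of_gt hlt)
    · obtain ⟨j, hj, c, hc, hjc⟩ := Submodule.mem_sup.mp (heq.ge hεJ)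
      obtain ⟨r, rfl⟩ := Ideal.mem_span_singleton'.mp hc
      have hu : IsUnit (1 - r * a) := by
        refine isUnit_one_sub_self_of_mem_nonunits _ ?_
        exact Ideal.mul_mem_left _ r ha
      refine hεJ' ((Ideal.unit_mul_mem_iff_mem _ hu).mp ?_)
      rw [show (1 - r * a) * ε = j by rw [sub_mul, one_mul, mul_assoc]; exact sub_eq_iff_eq_add.mpr hjc.symm]
      exact hj
  have hJeq : J = J' ⊔ Ideal.span {ε} := by
    refine ((sup_le hJ'.le ((Ideal.span_singleton_le_iff_mem _).mpr hεJ)).lt_or_eq.resolve_left fun hlt => ?_).symm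
    exact hεJ' (hmax hlt le_sup_left (Ideal.mem_sup_right (Ideal.mem_span_singleton_self _)))
  have hcolon : ∀ a, a * ε ∈ J' → a ∈ maximalIdeal R := fun a ha => by
    by_contra hu
    exact hεJ' ((Ideal.unit_mul_mem_iff_mem _ (by simpa using hu)).mp ha)
  let κ := R ⧸ maximalIdeal R
  letI : Field κ := Ideal.Quotient.field _
  let μ : κ →ₗ[A] R ⧸ J' := Submodule.mapQ ((maximalIdeal R).restrictScalars A) (J'.restrictScalars A)
    (LinearMap.mulRight A ε) fun a ha => hm a ha
  have hμ : Function.Injective μ := by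
    rw [← LinearMap.ker_eq_bot, eq_bot_iff]
    intro z hz
    obtain ⟨z, rfl⟩ := Submodule.Quotient.mk_surjective _ z
    replace hz : Submodule.Quotient.mk (p := J'.restrictScalars A) (z * ε) = 0 := hz
    rw [Submodule.Quotient.mk_eq_zero] at hz
    exact (Submodule.mem_bot _).mpr ((Submodule.Quotient.mk_eq_zero _).mpr (hcolon z hz))
  rw [Set.mem_setOf_eq, hJeq, Ideal.map_sup, Ideal.map_span, Set.image_singleton, Submodule.mem_sup] at hJ
  obtain ⟨x', hx', y, hy, rfl⟩ := hJ
  obtain ⟨b, rfl⟩ := Ideal.mem_span_singleton'.mp hy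
  let π : R ⊗[A] B →ₐ[A] (R ⧸ J') ⊗[A] B := Algebra.TensorProduct.map (Ideal.Quotient.mkₐ A J') (AlgHom.id A B)
  let ρ : R ⊗[A] B →ₐ[A] κ ⊗[A] B := Algebra.TensorProduct.map (Ideal.Quotient.mkₐ A _) (AlgHom.id A B)
  have hker : RingHom.ker π = J'.map inc := by
    rw [Algebra.TensorProduct.rTensor_ker _ (Ideal.Quotient.mkₐ_surjective A _)]
    exact congrArg (Ideal.map _) Ideal.mk_ker
  have hεb : ∀ z, π (z * inc ε) = μ.rTensor B (ρ z) := fun z => by
    induction z using TensorProduct.induction_on with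
    | zero => simp
    | add p q hp hq => simp only [add_mul, map_add, hp, hq]
    | tmul r c => simp [π, ρ, inc, μ]; rfl
  have hπx' : π x' = 0 := by
    rw [← RingHom.mem_ker, hker]
    exact hx'
  have hρ : ρ b = 0 := h κ _ fun j => by
    apply Module.Flat.rTensor_preserves_injective_linearMap (M := C j) μ hμ
    rw [map_zero]
    have h1 : μ.rTensor (C j) ((φ j).lTensor κ (ρ b)) = (φ j).lTensor (R ⧸ J') (μ.rTensor B (ρ b)) := by
      rw [← LinearMap.comp_apply, LinearMap.rTensor_comp_lTensor, ← LinearMap.lTensor_comp_rTensor]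
      rfl
    rw [h1, ← hεb, ← zero_add (π _), ← hπx', ← map_add]
    have h2 : ∀ z, (φ j).lTensor (R ⧸ J') (π z) =
        ((Ideal.Quotient.mkₐ A J').toLinearMap).rTensor (C j) ((φ j).lTensor R z) := fun z => by
      induction z using TensorProduct.induction_on with
      | zero => simp
      | add p q hp hq => simp only [map_add, hp, hq]
      | tmul r c => simp [π]
    rw [h2, hx j, map_zero]
  refine hmin J' ?_ hJ'
  show x' + b * inc ε ∈ J'.map inc
  rw [← hker, RingHom.mem_ker, map_add, hπx', hεb, hρ, map_zero, add_zero]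

/-- Fibrewise dense families are universally dense over Noetherian algebras. -/
theorem inj_of_noetherian {A' : Type u} [CommRing A'] [IsNoetherianRing A'] [Algebra A A']
    {B : Type u} [CommRing B] [Algebra A B] [Algebra.FiniteType A B] {ι : Type v} {C : ι → Type u}
    [∀ j, AddCommGroup (C j)] [∀ j, Module A (C j)] [∀ j, Module.Flat A (C j)] (φ : ∀ j, B →ₗ[A] C j)
    (h : ∀ (K : Type u) [Field K] [Algebra A K] (y : K ⊗[A] B), (∀ j, (φ j).lTensor K y = 0) → y = 0)
    (x : A' ⊗[A] B) (hx : ∀ j, (φ j).lTensor A' x = 0) : x = 0 := by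
  classical
  haveI : IsNoetherianRing (A' ⊗[A] B) := Algebra.FiniteType.isNoetherianRing A' _
  let ann : Ideal (A' ⊗[A] B) := LinearMap.ker (LinearMap.toSpanSingleton (A' ⊗[A] B) (A' ⊗[A] B) x)
  have hmem : ∀ b, b ∈ ann ↔ b * x = 0 := fun b => by simp [ann]
  suffices ann = ⊤ by simpa using (hmem 1).mp (this ▸ Submodule.mem_top)
  by_contra hne
  obtain ⟨q, hq, hle⟩ := Ideal.exists_le_maximal ann hne
  let P : Ideal A' := q.under A'
  let Bq := Localization.AtPrime q
  let g : A' ⊗[A] B →+* Bq := algebraMap _ Bq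
  suffices g x = 0 by
    obtain ⟨⟨s, hs⟩, hsx⟩ := (IsLocalization.map_eq_zero_iff q.primeCompl Bq x).mp this
    exact hs (hle ((hmem s).mpr hsx))
  rw [← Submodule.mem_bot (R := Bq), ← Ideal.iInf_pow_eq_bot_of_isLocalRing (maximalIdeal Bq) (maximalIdeal.isMaximal Bq).ne_top,
    Submodule.mem_iInf]
  intro k
  let Rloc := Localization.AtPrime P
  let R := Rloc ⧸ maximalIdeal Rloc ^ (k + 1)
  haveI : Nontrivial R := Ideal.Quotient.nontrivial_iff.mpr fun htop =>
    (maximalIdeal.isMaximal Rloc).ne_top (top_le_iff.mp (htop ▸ Ideal.pow_le_self (Nat.succ_ne_zero k)))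
  haveI : IsLocalRing R := IsLocalRing.of_surjective' (Ideal.Quotient.mk _) Ideal.Quotient.mk_surjective
  haveI : IsNoetherianRing R := isNoetherianRing_of_surjective Rloc R (Ideal.Quotient.mk _) Ideal.Quotient.mk_surjective
  haveI : Ring.KrullDimLE 0 R := Ring.krullDimLE_zero_iff.mpr fun I hI => by
    have hmax : (maximalIdeal Rloc).map (Ideal.Quotient.mk (maximalIdeal Rloc ^ (k + 1))) ≤ I := by
      rw [← hI.isRadical.radical]
      intro z hz
      refine ⟨k + 1, ?_⟩
      have h1 := Ideal.pow_mem_pow hz (k + 1)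
      rw [← Ideal.map_pow, Ideal.map_quotient_self] at h1
      rw [(Submodule.mem_bot _).mp h1]
      exact I.zero_mem
    have hI' : I = maximalIdeal R := le_antisymm (IsLocalRing.le_maximalIdeal hI.ne_top) ?_
    · rw [hI']; infer_instance
    · intro z hz
      obtain ⟨z, rfl⟩ := Ideal.Quotient.mk_surjective z
      refine hmax (Ideal.mem_map_of_mem _ ?_)
      exact fun hu => hz (hu.map _)
  haveI : IsArtinianRing R := isArtinianRing_iff_krullDimLE_zero.mpr inferInstance
  let QR : Ideal Bq := maximalIdeal Bq ^ (k + 1)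
  let ψ₀ : A' →+* Bq := g.comp (algebraMap A' (A' ⊗[A] B))
  let ψ₁ : Rloc →+* Bq := IsLocalization.lift (M := P.primeCompl) (g := ψ₀) fun s =>
    IsLocalization.map_units Bq (⟨algebraMap A' (A' ⊗[A] B) s, s.2⟩ : q.primeCompl)
  have hψ₁ : ∀ a, ψ₁ (algebraMap A' Rloc a) = ψ₀ a := fun a => IsLocalization.lift_eq _ a
  have hmax : (maximalIdeal Rloc).map ψ₁ ≤ maximalIdeal Bq := by
    rw [← IsLocalization.AtPrime.map_eq_maximalIdeal P Rloc, Ideal.map_map, Ideal.map_le_iff_le_comap]
    intro a ha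
    show ψ₁ (algebraMap A' Rloc a) ∈ maximalIdeal Bq
    rw [hψ₁, ← IsLocalization.AtPrime.map_eq_maximalIdeal q Bq]
    exact Ideal.mem_map_of_mem g ha
  let ψ : R →+* Bq ⧸ QR := Ideal.Quotient.lift _ ((Ideal.Quotient.mk QR).comp ψ₁) fun z hz => by
    show Ideal.Quotient.mk QR (ψ₁ z) = 0
    rw [Ideal.Quotient.eq_zero_iff_mem]
    have := Ideal.mem_map_of_mem ψ₁ hz
    rw [Ideal.map_pow] at this
    exact Ideal.pow_right_mono hmax _ this
  let α : A' →ₐ[A] R := IsScalarTower.toAlgHom A A' R
  have hψA : ∀ a, ψ (algebraMap A R a) = algebraMap A (Bq ⧸ QR) a := fun a => by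
    rw [IsScalarTower.algebraMap_apply A A' R]
    show Ideal.Quotient.mk QR (ψ₁ (algebraMap A' Rloc (algebraMap A A' a))) = _
    rw [hψ₁]
    show Ideal.Quotient.mk QR (g (algebraMap A' (A' ⊗[A] B) (algebraMap A A' a))) = _
    rw [← IsScalarTower.algebraMap_apply]
    rfl
  let ψA : R →ₐ[A] Bq ⧸ QR := { ψ with commutes' := hψA }
  let β₀ : B →+* Bq ⧸ QR :=
    (Ideal.Quotient.mk QR).comp (g.comp (Algebra.TensorProduct.includeRight : B →ₐ[A] A' ⊗[A] B).toRingHom)
  have hβ : ∀ a, β₀ (algebraMap A B a) = algebraMap A (Bq ⧸ QR) a := fun a => by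
    show Ideal.Quotient.mk QR (g ((Algebra.TensorProduct.includeRight : B →ₐ[A] A' ⊗[A] B) (algebraMap A B a))) = _
    rw [AlgHom.commutes]
    rfl
  let βA : B →ₐ[A] Bq ⧸ QR := { β₀ with commutes' := hβ }
  let L : R ⊗[A] B →ₐ[A] Bq ⧸ QR := Algebra.TensorProduct.lift ψA βA fun a c => by
    obtain ⟨a', ha⟩ := Ideal.Quotient.mk_surjective (ψA a)
    obtain ⟨c', hc⟩ := Ideal.Quotient.mk_surjective (βA c)
    show ψA a * βA c = βA c * ψA a
    rw [← ha, ← hc, ← map_mul, ← map_mul, _root_.mul_comm]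
  let m : A' ⊗[A] B →ₐ[A] R ⊗[A] B := Algebra.TensorProduct.map α (AlgHom.id A B)
  have hLm : ∀ z, L (m z) = Ideal.Quotient.mk QR (g z) := fun z => by
    induction z using TensorProduct.induction_on with
    | zero => simp
    | add p r hp hr => simp only [map_add, hp, hr]
    | tmul a c =>
      rw [show a ⊗ₜ[A] c = algebraMap A' (A' ⊗[A] B) a * (Algebra.TensorProduct.includeRight : B →ₐ[A] A' ⊗[A] B) c by
        simp [Algebra.TensorProduct.algebraMap_apply], map_mul g, map_mul (Ideal.Quotient.mk QR), map_mul m, map_mul L]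
      congr 1
      · show L (m (a ⊗ₜ 1)) = _
        simp only [m, L, Algebra.TensorProduct.map_tmul, map_one, Algebra.TensorProduct.lift_tmul, mul_one]
        show Ideal.Quotient.mk QR (ψ₁ (algebraMap A' Rloc a)) = _
        rw [hψ₁]
        rfl
      · show L (m (1 ⊗ₜ c)) = _
        simp only [m, L, Algebra.TensorProduct.map_tmul, map_one, Algebra.TensorProduct.lift_tmul, one_mul]
        rfl
  have hm0 : m x = 0 := inj_of_artinian φ h _ fun j => by
    have h2 : ∀ z, (φ j).lTensor R (m z) = α.toLinearMap.rTensor (C j) ((φ j).lTensor A' z) := fun z => by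
      induction z using TensorProduct.induction_on with
      | zero => simp
      | add p r hp hr => simp only [map_add, hp, hr]
      | tmul a c => simp [m]
    rw [h2, hx j, map_zero]
  have := hLm x
  rw [hm0, map_zero, eq_comm, Ideal.Quotient.eq_zero_iff_mem] at this
  exact Ideal.pow_le_pow_right (Nat.le_succ k) this

end Groth.Agent.DenseLib
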