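import Groth.Agent.DenseLib.Universal
import Mathlib.CategoryTheory.Monoidal.Cartesian.Over
import Mathlib.CategoryTheory.Monoidal.Cartesian.Mon

/-!
# The family of torsion subschemes of a group
-/

universe u

open CategoryTheory CategoryTheory.Limits MonoidalCategory CartesianMonoidalCategory MonObj AlgebraicGeometry

noncomputable section

namespace Groth.Agent.DenseLib

variable {S : Scheme.{u}} (H : Over S) [GrpObj H]

/-- The inclusion of the kernel of the `n`-th power. -/
abbrev torsion (n : ℕ) : pullback η[H].left (𝟙 H ^ n : H ⟶ H).left ⟶ H.left :=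
  pullback.snd η[H].left (𝟙 H ^ n : H ⟶ H).left

variable {H}

theorem pow_eq_one_iff {E : Set ℕ} (n : E) {T : Over S} (h : T ⟶ H) :
    h ^ (n : ℕ) = 1 ↔ ∃ a : T ⟶ member (fun m : E => torsion H m) n, a ≫ incl (fun m : E => torsion H m) n = h := by
  constructor
  · intro hh
    have h1 : h ≫ (𝟙 H ^ (n : ℕ) : H ⟶ H) = toUnit T ≫ η[H] := by
      rw [MonObj.comp_pow, Category.comp_id, hh, Hom.one_def]
    refine ⟨Over.homMk (pullback.lift (toUnit T).left h.left (congrArg CommaMorphism.left h1).symm) ?_,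
      Over.OverMorphism.ext (pullback.lift_snd _ _ _)⟩
    show pullback.lift _ _ _ ≫ pullback.snd _ _ ≫ H.hom = T.hom
    rw [pullback.lift_snd_assoc, Over.w h]
  · rintro ⟨a, rfl⟩
    have h1 : incl (fun m : E => torsion H m) n ≫ (𝟙 H ^ (n : ℕ) : H ⟶ H) =
        toUnit (member (fun m : E => torsion H m) n) ≫ η[H] := by
      let p : member (fun m : E => torsion H m) n ⟶ 𝟙_ (Over S) :=
        Over.homMk (pullback.fst η[H].left (𝟙 H ^ (n : ℕ) : H ⟶ H).left) (by
          rw [← Over.w η[H], ← Category.assoc, pullback.condition, Category.assoc, Over.w]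
          rfl)
      rw [toUnit_unique (toUnit _) p]
      exact Over.OverMorphism.ext pullback.condition.symm
    rw [MonObj.comp_pow, Category.comp_id] at h1
    rw [← MonObj.comp_pow, h1, ← Category.assoc, toUnit_unique (a ≫ toUnit _) (toUnit _), Hom.one_def]

theorem torsion_directed {E : Set ℕ} (hEmul : ∀ m ∈ E, ∀ n ∈ E, m * n ∈ E) (j k : E) :
    ∃ m : E, (∃ a : member (fun m : E => torsion H m) j ⟶ member (fun m : E => torsion H m) m,
        a ≫ incl (fun m : E => torsion H m) m = incl (fun m : E => torsion H m) j) ∧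
      ∃ b : member (fun m : E => torsion H m) k ⟶ member (fun m : E => torsion H m) m,
        b ≫ incl (fun m : E => torsion H m) m = incl (fun m : E => torsion H m) k := by
  refine ⟨⟨j * k, hEmul _ j.2 _ k.2⟩, (pow_eq_one_iff _ _).mp ?_, (pow_eq_one_iff _ _).mp ?_⟩
  · rw [pow_mul, (pow_eq_one_iff j _).mpr ⟨𝟙 _, Category.id_comp _⟩, one_pow]
  · show _ ^ ((j : ℕ) * k) = 1
    rw [pow_mul', (pow_eq_one_iff k _).mpr ⟨𝟙 _, Category.id_comp _⟩, one_pow]

end Groth.Agent.DenseLib
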