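import Groth.Agent.DenseLib.Alg
import Groth.Agent.TransLib.Finite
import Groth.Prelude.Def_MoreMor
import Mathlib.AlgebraicGeometry.Morphisms.ClosedImmersion
import Mathlib.AlgebraicGeometry.Noetherian

/-!
# Universal closed subschemes along fibrewise dense finite flat families

For a family of finite flat schemes over `W` which is schematically dense in every fibre of `W`, the points at which a
morphism out of `W` lands in a closed subscheme form a closed subscheme, the intersection of those of the members.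
-/

universe u

open CategoryTheory CategoryTheory.Limits MonoidalCategory CartesianMonoidalCategory AlgebraicGeometry TensorProduct

noncomputable section

namespace Groth.Agent.DenseLib

/-- The chart of a base change given by affine pieces over an affine open of the base. -/
theorem exists_chartPB {S W : Scheme.{u}} (π : W ⟶ S) {A A' B : Type u} [CommRing A] [CommRing A'] [CommRing B]
    [Algebra A A'] [Algebra A B] (gS : Spec (CommRingCat.of A) ⟶ S) [IsOpenImmersion gS]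
    (v : Spec (CommRingCat.of B) ⟶ W) [IsOpenImmersion v]
    (hv : v ≫ π = Spec.map (CommRingCat.ofHom (algebraMap A B)) ≫ gS)
    (t : Spec (CommRingCat.of A') ⟶ S) (ht : t = Spec.map (CommRingCat.ofHom (algebraMap A A')) ≫ gS) :
    ∃ q : Spec (CommRingCat.of (A' ⊗[A] B)) ⟶ pullback π t, IsOpenImmersion q ∧
      q ≫ pullback.fst π t =
        Spec.map (CommRingCat.ofHom (Algebra.TensorProduct.includeRight (R := A) (A := A') (B := B)).toRingHom) ≫ v ∧
      q ≫ pullback.snd π t =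
        Spec.map (CommRingCat.ofHom (Algebra.TensorProduct.includeLeftRingHom (R := A) (A := A') (B := B))) ∧
      ∀ z, pullback.fst π t z ∈ Set.range v → z ∈ Set.range q := by
  let iL := Spec.map (CommRingCat.ofHom (Algebra.TensorProduct.includeLeftRingHom (R := A) (A := A') (B := B)))
  let iR := Spec.map (CommRingCat.ofHom (Algebra.TensorProduct.includeRight (R := A) (A := A') (B := B)).toRingHom)
  have hsq : IsPullback iR iL (Spec.map (CommRingCat.ofHom (algebraMap A B)))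
      (Spec.map (CommRingCat.ofHom (algebraMap A A'))) :=
    (isPullback_SpecMap_of_isPushout _ _ _ _ (CommRingCat.isPushout_tensorProduct A A' B)).flip
  have hsq' : IsPullback iR iL (v ≫ π) t := by
    refine IsPullback.of_isLimit' ⟨by rw [hv, ht, reassoc_of% hsq.w]⟩
      (PullbackCone.IsLimit.mk _ (fun c => hsq.lift c.fst c.snd ?_) (fun c => hsq.lift_fst _ _ _)
        (fun c => hsq.lift_snd _ _ _) fun c k h1 h2 => hsq.hom_ext (by rw [hsq.lift_fst]; exact h1)
          (by rw [hsq.lift_snd]; exact h2))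
    rw [← cancel_mono gS, Category.assoc, Category.assoc, ← hv, ← ht]
    exact c.condition
  let q := pullback.lift (f := π) (g := t) (iR ≫ v) iL (by rw [Category.assoc]; exact hsq'.w)
  have h1 : q ≫ pullback.fst π t = iR ≫ v := pullback.lift_fst _ _ _
  have h2 : q ≫ pullback.snd π t = iL := pullback.lift_snd _ _ _
  have htop : IsPullback iR q v (pullback.fst π t) :=
    (IsPullback.of_right (by rw [h2]; exact hsq'.flip) h1 (IsPullback.of_hasPullback π t).flip).flip
  refine ⟨q, MorphismProperty.of_isPullback (P := @IsOpenImmersion) htop ‹IsOpenImmersion v›, h1, h2, ?_⟩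
  rintro z ⟨b, hb⟩
  obtain ⟨w, -, hw⟩ := Scheme.exists_preimage_of_isPullback htop b z hb
  exact ⟨w, hw⟩

/-- A section vanishing on the members of a covering by open immersions vanishes. -/
theorem eq_zero_of_cover {X : Scheme.{u}} {U : X.Opens} (s : Γ(X, U))
    (h : ∀ z ∈ U, ∃ (W : Scheme.{u}) (w : W ⟶ X) (_ : IsOpenImmersion w) (e : ⊤ ≤ w ⁻¹ᵁ U),
      z ∈ Set.range w ∧ w.appLE U ⊤ e s = 0) : s = 0 := by
  refine TopCat.Presheaf.section_ext X.sheaf U s 0 fun z hz => ?_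
  obtain ⟨W, w, _, e, ⟨a, rfl⟩, hwa⟩ := h z hz
  apply (ConcreteCategory.bijective_of_isIso (w.stalkMap a)).1
  show w.stalkMap a (X.presheaf.germ U (w a) hz s) = w.stalkMap a ((X.presheaf.germ U (w a) hz) 0)
  rw [map_zero, map_zero, Scheme.Hom.germ_stalkMap_apply]
  have h2 := congrArg (W.presheaf.germ ⊤ a trivial).hom hwa
  rw [map_zero] at h2
  refine Eq.trans ?_ h2
  show _ = W.presheaf.germ ⊤ a trivial (w.appLE U ⊤ e s)
  rw [Scheme.Hom.appLE]
  simp only [CommRingCat.comp_apply]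
  exact (W.presheaf.germ_res_apply (homOfLE e) a trivial _).symm

variable {S : Scheme.{u}} [IsLocallyNoetherian S] {W X Y E : Over S} [LocallyOfFiniteType W.hom]
  [IsLocallyNoetherian X.left] {ι : Type} {Zs : ι → Scheme.{u}} (e : ∀ j, Zs j ⟶ W.left)
  [∀ j, IsFinite (e j ≫ W.hom)] [∀ j, Flat (e j ≫ W.hom)]
  (hd : ∀ (s : S) (V : (W.hom.fiber s).Opens) (t : Γ(W.hom.fiber s, V)),
    (∀ j, (MoreMor.fiberMap (e j) W.hom s).app V t = 0) → t = 0)

/-- A member of the family over `W`. -/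
abbrev member (j : ι) : Over S := Over.mk (e j ≫ W.hom)

/-- The inclusion of a member. -/
abbrev incl (j : ι) : member e j ⟶ W := Over.homMk (e j) rfl

include hd

omit [IsLocallyNoetherian X.left] in
set_option maxHeartbeats 1600000 in
/-- A morphism landing in a closed subscheme on all members lands in it, over a locally Noetherian parameter scheme. -/
theorem factors_of_members {T : Over S} [IsLocallyNoetherian T.left] (g : W ⊗ T ⟶ Y) (i : E ⟶ Y)
    [IsClosedImmersion i.left] (h : ∀ j, ∃ l : member e j ⊗ T ⟶ E, l ≫ i = (incl e j ▷ T) ≫ g) :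
    ∃ l : W ⊗ T ⟶ E, l ≫ i = g := by
  classical
  let ec := pullback.fst g.left i.left
  haveI : IsClosedImmersion ec := inferInstanceAs (IsClosedImmersion (pullback.fst g.left i.left))
  suffices hloc : ∀ z : (W ⊗ T).left, ∃ (R : CommRingCat.{u}) (q : Spec R ⟶ (W ⊗ T).left),
      IsOpenImmersion q ∧ z ∈ Set.range q ∧ ∃ r : Spec R ⟶ E.left, r ≫ i.left = q ≫ g.left by
    choose R q hq hzq r hr using hloc
    let 𝒰 : (W ⊗ T).left.OpenCover :=
      { I₀ := (W ⊗ T).left
        X := fun z => Spec (R z)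
        f := q
        mem₀ := by
          rw [Scheme.presieve₀_mem_precoverage_iff]
          exact ⟨fun z => ⟨z, hzq z⟩, fun z => hq z⟩ }
    haveI : Mono i.left := inferInstance
    let l : (W ⊗ T).left ⟶ E.left := 𝒰.glueMorphisms r fun a b => by
      rw [← cancel_mono i.left, Category.assoc, Category.assoc]
      exact (congrArg (pullback.fst _ _ ≫ ·) (hr a)).trans
        ((pullback.condition_assoc _).trans (congrArg (pullback.snd _ _ ≫ ·) (hr b)).symm)
    have hl : l ≫ i.left = g.left := 𝒰.hom_ext _ _ fun a => by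
      rw [Scheme.Cover.ι_glueMorphisms_assoc]
      exact hr a
    exact ⟨Over.homMk l (by rw [← Over.w i, ← Category.assoc, hl, Over.w g]), Over.OverMorphism.ext hl⟩
  intro z
  -- affine pieces
  obtain ⟨S₀, hS₀, hzS₀, -⟩ := exists_isAffineOpen_mem_and_subset
    (show T.hom ((snd W T).left z) ∈ (⊤ : S.Opens) from trivial)
  have hzW : W.hom ((fst W T).left z) ∈ S₀ := by
    have hw : (fst W T).left ≫ W.hom = (snd W T).left ≫ T.hom := (Over.w (fst W T)).trans (Over.w (snd W T)).symm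
    rw [← Scheme.Hom.comp_apply, hw]
    exact hzS₀
  obtain ⟨U, hU, hzU, hUS⟩ := exists_isAffineOpen_mem_and_subset
    (show (snd W T).left z ∈ T.hom ⁻¹ᵁ S₀ from hzS₀)
  obtain ⟨V, hV, hzV, hVS⟩ := exists_isAffineOpen_mem_and_subset
    (show (fst W T).left z ∈ W.hom ⁻¹ᵁ S₀ from hzW)
  let A : Type u := Γ(S, S₀)
  let A' : Type u := Γ(T.left, U)
  let B : Type u := Γ(W.left, V)
  letI : Algebra A A' := (T.hom.appLE S₀ U hUS).hom.toAlgebra
  letI : Algebra A B := (W.hom.appLE S₀ V hVS).hom.toAlgebra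
  haveI : Algebra.FiniteType A B :=
    HasRingHomProperty.appLE @LocallyOfFiniteType W.hom inferInstance ⟨S₀, hS₀⟩ ⟨V, hV⟩ hVS
  haveI : IsNoetherianRing A' := IsLocallyNoetherian.component_noetherian ⟨U, hU⟩
  let v : Spec (CommRingCat.of B) ⟶ W.left := hV.fromSpec
  haveI : IsOpenImmersion v := inferInstanceAs (IsOpenImmersion hV.fromSpec)
  have hv : v ≫ W.hom = Spec.map (CommRingCat.ofHom (algebraMap A B)) ≫ hS₀.fromSpec :=
    (IsAffineOpen.SpecMap_appLE_fromSpec W.hom hS₀ hV hVS).symm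
  have hu : hU.fromSpec ≫ T.hom = Spec.map (CommRingCat.ofHom (algebraMap A A')) ≫ hS₀.fromSpec :=
    (IsAffineOpen.SpecMap_appLE_fromSpec T.hom hS₀ hU hUS).symm
  obtain ⟨q₀, hq₀, hq₁, hq₂, hqr⟩ := exists_chartPB W.hom hS₀.fromSpec v hv (hU.fromSpec ≫ T.hom) hu
  let m : pullback W.hom (hU.fromSpec ≫ T.hom) ⟶ (W ⊗ T).left :=
    pullback.map W.hom (hU.fromSpec ≫ T.hom) W.hom T.hom (𝟙 _) hU.fromSpec (𝟙 S) (by simp) (by simp)
  have hm1 : m ≫ (fst W T).left = pullback.fst W.hom (hU.fromSpec ≫ T.hom) :=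
    (pullback.lift_fst _ _ _).trans (Category.comp_id _)
  have hm2 : m ≫ (snd W T).left = pullback.snd W.hom (hU.fromSpec ≫ T.hom) ≫ hU.fromSpec := pullback.lift_snd _ _ _
  have hmsq : IsPullback m (pullback.snd W.hom (hU.fromSpec ≫ T.hom)) (snd W T).left hU.fromSpec :=
    IsPullback.of_right (by rw [show m ≫ pullback.fst W.hom T.hom = _ from hm1]; exact (IsPullback.of_hasPullback W.hom (hU.fromSpec ≫ T.hom))) hm2
      (IsPullback.of_hasPullback W.hom T.hom)
  haveI : IsOpenImmersion m := MorphismProperty.of_isPullback (P := @IsOpenImmersion) hmsq.flip inferInstance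
  haveI := hq₀
  let q := q₀ ≫ m
  refine ⟨CommRingCat.of (A' ⊗[A] B), q, inferInstanceAs (IsOpenImmersion (q₀ ≫ m)), ?_, ?_⟩
  · obtain ⟨u, hu'⟩ : (snd W T).left z ∈ Set.range hU.fromSpec := hU.range_fromSpec.ge hzU
    obtain ⟨z', hz', -⟩ := Scheme.exists_preimage_of_isPullback hmsq z u hu'.symm
    obtain ⟨w, rfl⟩ := hqr z' (by
      rw [← hm1, Scheme.Hom.comp_apply, hz']
      exact hV.range_fromSpec.ge hzV)
    exact ⟨w, hz'⟩
  -- the ideal of the closed subscheme
  obtain ⟨J, eJ, heJ⟩ := IsClosedImmersion.Spec_iff.mp (inferInstance : IsClosedImmersion (pullback.fst q ec))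
  suffices hJ : J = ⊥ by
    haveI : IsIso (pullback.fst q ec) := by
      subst hJ
      haveI : IsIso (CommRingCat.ofHom (Ideal.Quotient.mk (⊥ : Ideal (A' ⊗[A] B)))) :=
        (RingEquiv.quotientBot (A' ⊗[A] B)).symm.toCommRingCatIso.isIso_hom
      rw [heJ]; infer_instance
    refine ⟨inv (pullback.fst q ec) ≫ pullback.snd q ec ≫ pullback.snd g.left i.left, ?_⟩
    rw [Category.assoc, Category.assoc, ← pullback.condition, ← pullback.condition_assoc, IsIso.inv_hom_id_assoc]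
  have hker : ∀ {R' : Type u} [CommRing R'] (ψ : A' ⊗[A] B →+* R'),
      (∃ l : Spec (CommRingCat.of R') ⟶ E.left, l ≫ i.left = Spec.map (CommRingCat.ofHom ψ) ≫ q ≫ g.left) →
        J ≤ RingHom.ker ψ := by
    rintro R' _ ψ ⟨l, hl⟩
    let m' : Spec (CommRingCat.of R') ⟶ pullback q ec := pullback.lift (Spec.map (CommRingCat.ofHom ψ))
      (pullback.lift (Spec.map (CommRingCat.ofHom ψ) ≫ q) l (by rw [hl, Category.assoc])) (pullback.lift_fst _ _ _).symm
    obtain ⟨χ, hχ⟩ := Spec.map_surjective (m' ≫ eJ.hom)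
    have hψ : CommRingCat.ofHom ψ = CommRingCat.ofHom (Ideal.Quotient.mk J) ≫ χ := by
      apply Spec.map_injective
      rw [Spec.map_comp, hχ, Category.assoc, ← heJ]
      exact (pullback.lift_fst _ _ _).symm
    intro x hx
    show ψ x = 0
    have := congrArg (fun k => k.hom x) hψ
    simpa [Ideal.Quotient.eq_zero_iff_mem.mpr hx] using this
  -- the pieces of the members
  let κ := Σ j, {D : (Zs j).affineOpens // D.1 ≤ e j ⁻¹ᵁ V}
  let C : κ → Type u := fun k => Γ(Zs k.1, k.2.1.1)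
  have hDS : ∀ k : κ, k.2.1.1 ≤ (e k.1 ≫ W.hom) ⁻¹ᵁ S₀ := fun k =>
    k.2.2.trans ((TopologicalSpace.Opens.map (e k.1).base).map (homOfLE hVS)).le
  letI : ∀ k, Algebra A (C k) := fun k => ((e k.1 ≫ W.hom).appLE S₀ k.2.1.1 (hDS k)).hom.toAlgebra
  haveI : ∀ k, Module.Flat A (C k) := fun k =>
    HasRingHomProperty.appLE @Flat (e k.1 ≫ W.hom) inferInstance ⟨S₀, hS₀⟩ ⟨_, k.2.1.2⟩ (hDS k)
  let φ₀ : ∀ k, B →+* C k := fun k => ((e k.1).appLE V k.2.1.1 k.2.2).hom
  have hφ₀ : ∀ k a, φ₀ k (algebraMap A B a) = algebraMap A (C k) a := fun k a => by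
    show ((W.hom.appLE S₀ V hVS) ≫ (e k.1).appLE V k.2.1.1 k.2.2).hom a = _
    rw [Scheme.Hom.appLE_comp_appLE]
    rfl
  let φ : ∀ k, B →ₐ[A] C k := fun k => { φ₀ k with commutes' := hφ₀ k }
  let d : ∀ k : κ, Spec (CommRingCat.of (C k)) ⟶ Zs k.1 := fun k => k.2.1.2.fromSpec
  have hde : ∀ k, d k ≫ e k.1 = Spec.map (CommRingCat.ofHom (φ k).toRingHom) ≫ v := fun k =>
    (IsAffineOpen.SpecMap_appLE_fromSpec (e k.1) hV k.2.1.2 k.2.2).symm
  have hdS : ∀ k, d k ≫ e k.1 ≫ W.hom = Spec.map (CommRingCat.ofHom (algebraMap A (C k))) ≫ hS₀.fromSpec := fun k =>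
    (IsAffineOpen.SpecMap_appLE_fromSpec (e k.1 ≫ W.hom) hS₀ k.2.1.2 (hDS k)).symm
  haveI : ∀ k, IsOpenImmersion (d k) := fun k => inferInstanceAs (IsOpenImmersion k.2.1.2.fromSpec)
  -- density over fields
  let fm : ∀ {K₀ : Type u} [Field K₀] (t₀ : Spec (CommRingCat.of K₀) ⟶ S) (j : ι),
      pullback (e j ≫ W.hom) t₀ ⟶ pullback W.hom t₀ := fun t₀ j =>
    pullback.lift (pullback.fst (e j ≫ W.hom) t₀ ≫ e j) (pullback.snd _ _)
      ((Category.assoc _ _ _).trans pullback.condition)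
  have hgen : ∀ (K₀ : Type u) [Field K₀] [Algebra A K₀] (t₀ : Spec (CommRingCat.of K₀) ⟶ S),
      t₀ = Spec.map (CommRingCat.ofHom (algebraMap A K₀)) ≫ hS₀.fromSpec →
      (∀ (V : (pullback W.hom t₀).Opens) (t : Γ(pullback W.hom t₀, V)), (∀ j, (fm t₀ j).app V t = 0) → t = 0) →
      ∀ y₀ : K₀ ⊗[A] B, (∀ k, (φ k).toLinearMap.lTensor K₀ y₀ = 0) → y₀ = 0 := by
    intro K₀ _ _ t₀ ht₀ hd₀ y₀ hy₀
    obtain ⟨qs, hqs, hqs1, hqs2, -⟩ := exists_chartPB (A := A) (A' := K₀) W.hom hS₀.fromSpec v hv (t₀) ht₀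
    haveI := hqs
    let Vs : (pullback W.hom t₀).Opens := qs ''ᵁ ⊤
    have hle : (⊤ : (Spec (CommRingCat.of (K₀ ⊗[A] B))).Opens) ≤ qs ⁻¹ᵁ Vs := (qs.preimage_image_eq ⊤).ge
    let ρ := qs.appLE Vs ⊤ hle
    haveI : IsIso ρ := by
      have : ρ = (qs.appIso ⊤).hom := (qs.appIso_hom' ⊤).symm
      rw [this]
      infer_instance
    let t : Γ(pullback W.hom t₀, Vs) := inv ρ ((Scheme.ΓSpecIso (CommRingCat.of (K₀ ⊗[A] B))).inv y₀)
    have ht : ρ t = (Scheme.ΓSpecIso (CommRingCat.of (K₀ ⊗[A] B))).inv y₀ := by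
      show (inv ρ ≫ ρ) _ = _
      rw [IsIso.inv_hom_id]
      rfl
    suffices ht0 : t = 0 by
      rw [ht0, map_zero] at ht
      apply (ConcreteCategory.bijective_of_isIso (Scheme.ΓSpecIso (CommRingCat.of (K₀ ⊗[A] B))).inv).1
      rw [map_zero]
      exact ht.symm
    refine hd₀ Vs t fun j => eq_zero_of_cover _ fun z hz => ?_
    have hzV : (pullback.fst (e j ≫ W.hom) t₀ ≫ e j) z ∈ V := by
      obtain ⟨a, -, ha⟩ := hz
      have h1 : fm t₀ j ≫ pullback.fst W.hom t₀ = pullback.fst (e j ≫ W.hom) t₀ ≫ e j := pullback.lift_fst _ _ _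
      rw [← h1, Scheme.Hom.comp_apply, ← ha]
      show (qs ≫ pullback.fst W.hom (t₀)) a ∈ V
      rw [hqs1, Scheme.Hom.comp_apply]
      exact hV.range_fromSpec.le ⟨_, rfl⟩
    obtain ⟨D, hD, hzD, hDV⟩ := exists_isAffineOpen_mem_and_subset
      (show pullback.fst (e j ≫ W.hom) t₀ z ∈ e j ⁻¹ᵁ V from hzV)
    let k : κ := ⟨j, ⟨⟨D, hD⟩, hDV⟩⟩
    obtain ⟨qd, hqd, hqd1, hqd2, hqdr⟩ :=
      exists_chartPB (A := A) (A' := K₀) (e j ≫ W.hom) hS₀.fromSpec (d k) (hdS k) (t₀) ht₀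
    haveI := hqd
    let Φ : K₀ ⊗[A] B →ₐ[A] K₀ ⊗[A] C k := Algebra.TensorProduct.map (AlgHom.id A K₀) (φ k)
    have hcomm : qd ≫ fm t₀ j = Spec.map (CommRingCat.ofHom Φ.toRingHom) ≫ qs := by
      apply pullback.hom_ext
      · rw [Category.assoc, Category.assoc, hqs1, ← Spec.map_comp_assoc]
        rw [show fm t₀ j ≫ pullback.fst W.hom (t₀) =
          pullback.fst (e j ≫ W.hom) (t₀) ≫ e j from pullback.lift_fst _ _ _,
          reassoc_of% hqd1, hde k, ← Spec.map_comp_assoc]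
        congr 2
      · rw [Category.assoc, Category.assoc, hqs2, ← Spec.map_comp]
        rw [show fm t₀ j ≫ pullback.snd W.hom (t₀) =
          pullback.snd (e j ≫ W.hom) (t₀) from pullback.lift_snd _ _ _, hqd2]
        congr 1
        ext c
        simp [Φ]
    have hle' : (⊤ : (Spec (CommRingCat.of (K₀ ⊗[A] C k))).Opens) ≤ qd ⁻¹ᵁ (fm t₀ j ⁻¹ᵁ Vs) :=
      fun a _ => by
        show (qd ≫ fm t₀ j) a ∈ Vs
        rw [hcomm, Scheme.Hom.comp_apply]
        exact ⟨_, trivial, rfl⟩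
    refine ⟨_, qd, hqd, hle', hqdr z (hD.range_fromSpec.ge hzD), ?_⟩
    show ((fm t₀ j).app Vs ≫ qd.appLE _ ⊤ hle') t = 0
    rw [← Scheme.Hom.comp_appLE]
    simp only [hcomm]
    rw [show (Spec.map (CommRingCat.ofHom Φ.toRingHom) ≫ qs).appLE Vs ⊤ (by
        intro a _; exact ⟨_, trivial, rfl⟩) = ρ ≫ (Spec.map (CommRingCat.ofHom Φ.toRingHom)).appTop from by
      rw [← Scheme.Hom.appLE_comp_appLE _ _ Vs ⊤ ⊤ hle le_top]
      exact congrArg (ρ ≫ ·) (Scheme.Hom.app_eq_appLE _).symm]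
    rw [CommRingCat.comp_apply, ht]
    show ((Scheme.ΓSpecIso (CommRingCat.of (K₀ ⊗[A] B))).inv ≫ (Spec.map (CommRingCat.ofHom Φ.toRingHom)).appTop) y₀ = 0
    rw [← Scheme.ΓSpecIso_inv_naturality, CommRingCat.comp_apply]
    have h0 : Φ y₀ = 0 := hy₀ k
    show (Scheme.ΓSpecIso (CommRingCat.of (K₀ ⊗[A] C k))).inv (Φ y₀) = 0
    rw [h0, map_zero]
  have hfield : ∀ (K : Type u) [Field K] [Algebra A K] (y : K ⊗[A] B),
      (∀ k, (φ k).toLinearMap.lTensor K y = 0) → y = 0 := by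
    intro K _ _ y hy
    let b : Spec (CommRingCat.of K) ⟶ S := Spec.map (CommRingCat.ofHom (algebraMap A K)) ≫ hS₀.fromSpec
    let p := Scheme.SpecToEquivOfField K S b
    let s := p.1
    have hb : b = Spec.map p.2 ≫ S.fromSpecResidueField s := ((Scheme.SpecToEquivOfField K S).left_inv b).symm
    have hs : Set.range (S.fromSpecResidueField s) ⊆ Set.range hS₀.fromSpec := by
      rw [Scheme.range_fromSpecResidueField, Set.singleton_subset_iff]
      exact ⟨Spec.map (CommRingCat.ofHom (algebraMap A K)) (IsLocalRing.closedPoint K), rfl⟩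
    obtain ⟨θ, hθ⟩ := Spec.map_surjective (IsOpenImmersion.lift hS₀.fromSpec _ hs)
    letI : Algebra A (IsLocalRing.ResidueField (S.presheaf.stalk s)) := θ.hom.toAlgebra
    letI : Algebra (IsLocalRing.ResidueField (S.presheaf.stalk s)) K := p.2.hom.toAlgebra
    have hθ' : S.fromSpecResidueField s =
        Spec.map (CommRingCat.ofHom (algebraMap A (IsLocalRing.ResidueField (S.presheaf.stalk s)))) ≫ hS₀.fromSpec := by
      show _ = Spec.map θ ≫ hS₀.fromSpec
      rw [hθ, IsOpenImmersion.lift_fac]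
    haveI : IsScalarTower A (IsLocalRing.ResidueField (S.presheaf.stalk s)) K := IsScalarTower.of_algebraMap_eq' <| by
      have : CommRingCat.ofHom (algebraMap A K) = θ ≫ p.2 := by
        apply Spec.map_injective
        rw [← cancel_mono hS₀.fromSpec, Spec.map_comp, Category.assoc]
        exact hb.trans (congrArg (Spec.map p.2 ≫ ·) hθ')
      exact congrArg CommRingCat.Hom.hom this
    exact inj_of_field (K₀ := IsLocalRing.ResidueField (S.presheaf.stalk s)) (fun k => (φ k).toLinearMap)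
      (hgen _ (S.fromSpecResidueField s) hθ' (hd s)) y hy
  rw [eq_bot_iff]
  intro x hx
  refine inj_of_noetherian (fun k => (φ k).toLinearMap) hfield x fun k => ?_
  obtain ⟨l, hl⟩ := h k.1
  let Φ : A' ⊗[A] B →ₐ[A] A' ⊗[A] C k := Algebra.TensorProduct.map (AlgHom.id A A') (φ k)
  let iR := Spec.map (CommRingCat.ofHom (Algebra.TensorProduct.includeRight (R := A) (A := A') (B := C k)).toRingHom)
  let iL := Spec.map (CommRingCat.ofHom (Algebra.TensorProduct.includeLeftRingHom (R := A) (A := A') (B := C k)))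
  let qC : Spec (CommRingCat.of (A' ⊗[A] C k)) ⟶ (member e k.1 ⊗ T).left :=
    pullback.lift (iR ≫ d k) (iL ≫ hU.fromSpec) (by
      show (iR ≫ d k) ≫ e k.1 ≫ W.hom = (iL ≫ hU.fromSpec) ≫ T.hom
      rw [Category.assoc, Category.assoc, hdS, hu, ← Spec.map_comp_assoc, ← Spec.map_comp_assoc]
      congr 2
      ext a
      exact (Algebra.TensorProduct.tmul_one_eq_one_tmul (A := A') (B := C k) a).symm)
  have hqC : qC ≫ (incl e k.1 ▷ T).left = Spec.map (CommRingCat.ofHom Φ.toRingHom) ≫ q := by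
    apply pullback.hom_ext
    · show qC ≫ (incl e k.1 ▷ T ≫ fst W T).left = (Spec.map _ ≫ q₀ ≫ m) ≫ (fst W T).left
      rw [whiskerRight_fst, Category.assoc, Category.assoc, hm1, hq₁]
      show qC ≫ pullback.fst (e k.1 ≫ W.hom) T.hom ≫ e k.1 = _
      rw [← Category.assoc, show qC ≫ pullback.fst (e k.1 ≫ W.hom) T.hom = iR ≫ d k from pullback.lift_fst _ _ _,
        Category.assoc, hde, ← Spec.map_comp_assoc, ← Spec.map_comp_assoc]
      congr 2
    · show qC ≫ (incl e k.1 ▷ T ≫ snd W T).left = (Spec.map _ ≫ q₀ ≫ m) ≫ (snd W T).left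
      rw [whiskerRight_snd, Category.assoc, Category.assoc, hm2, reassoc_of% hq₂]
      show qC ≫ pullback.snd (e k.1 ≫ W.hom) T.hom = _
      rw [show qC ≫ pullback.snd (e k.1 ≫ W.hom) T.hom = iL ≫ hU.fromSpec from pullback.lift_snd _ _ _,
        ← Spec.map_comp_assoc]
      congr 1
      exact congrArg Spec.map (by ext c; simp [Φ])
  exact hker Φ.toRingHom ⟨qC ≫ l.left, by
    rw [Category.assoc, ← Over.comp_left, hl, Over.comp_left, ← Category.assoc, hqC, Category.assoc]⟩ hx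

set_option maxHeartbeats 800000 in
/-- The universal closed subscheme of a dense family of finite flat schemes. -/
theorem exists_closed_universal_dense (f : W ⊗ X ⟶ Y) (i : E ⟶ Y) [IsClosedImmersion i.left] :
    ∃ (Z : Over S) (c : Z ⟶ X), IsClosedImmersion c.left ∧
      (∀ {P : Over S} (x : P ⟶ X), (∃ z : P ⟶ Z, z ≫ c = x) ↔ ∃ l : W ⊗ P ⟶ E, l ≫ i = (W ◁ x) ≫ f) ∧
      (CompactSpace X.left → Nonempty ι →
        (∀ j k, ∃ m, (∃ a : member e j ⟶ member e m, a ≫ incl e m = incl e j) ∧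
          ∃ b : member e k ⟶ member e m, b ≫ incl e m = incl e k) →
        ∃ n, ∀ {P : Over S} (x : P ⟶ X), (∃ l : W ⊗ P ⟶ E, l ≫ i = (W ◁ x) ≫ f) ↔
          ∃ l : member e n ⊗ P ⟶ E, l ≫ i = (incl e n ▷ P) ≫ (W ◁ x) ≫ f) := by
  classical
  haveI : ∀ j, LocallyOfFinitePresentation (e j ≫ W.hom) := fun j => inferInstance
  have hZ : ∀ j, ∃ (Zj : Over S) (c : Zj ⟶ X), IsClosedImmersion c.left ∧ ∀ {P : Over S} (x : P ⟶ X),
      (∃ z : P ⟶ Zj, z ≫ c = x) ↔ ∃ l : member e j ⊗ P ⟶ E, l ≫ i = (incl e j ▷ P) ≫ (W ◁ x) ≫ f := fun j => by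
    haveI : IsFinite (member e j).hom := inferInstanceAs (IsFinite (e j ≫ W.hom))
    haveI : Flat (member e j).hom := inferInstanceAs (Flat (e j ≫ W.hom))
    haveI : LocallyOfFinitePresentation (member e j).hom := inferInstanceAs (LocallyOfFinitePresentation (e j ≫ W.hom))
    obtain ⟨Zj, c, hc, -, hZc⟩ := TransLib.exists_closed_universal_finite (W := member e j) ((incl e j ▷ X) ≫ f) i
    refine ⟨Zj, c, hc, fun {P} x => (hZc x).trans ?_⟩
    rw [← whisker_exchange_assoc]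
  choose Zj c hc hZc using hZ
  have hfac : ∀ {Z' : Over S} (c' : Z' ⟶ X) [IsClosedImmersion c'.left] {P : Over S} (x : P ⟶ X),
      (∃ z : P ⟶ Z', z ≫ c' = x) ↔ c'.left.ker ≤ x.left.ker := by
    intro Z' c' _ P x
    constructor
    · rintro ⟨z, rfl⟩
      exact Scheme.Hom.le_ker_comp z.left c'.left
    · intro hle
      exact ⟨Over.homMk (IsClosedImmersion.lift c'.left x.left hle)
        (by rw [← Over.w c', IsClosedImmersion.lift_fac_assoc, Over.w x]),
        Over.OverMorphism.ext (IsClosedImmersion.lift_fac _ _ _)⟩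
  let 𝓘 : X.left.IdealSheafData := ⨆ j, (c j).left.ker
  let Z : Over S := Over.mk (𝓘.subschemeι ≫ X.hom)
  let cZ : Z ⟶ X := Over.homMk 𝓘.subschemeι rfl
  haveI : IsClosedImmersion cZ.left := inferInstanceAs (IsClosedImmersion 𝓘.subschemeι)
  haveI : ∀ j, IsClosedImmersion (c j).left := hc
  have hall : ∀ {P : Over S} (x : P ⟶ X), (∃ z : P ⟶ Z, z ≫ cZ = x) ↔
      ∀ j, ∃ l : member e j ⊗ P ⟶ E, l ≫ i = (incl e j ▷ P) ≫ (W ◁ x) ≫ f := fun {P} x => by
    rw [hfac cZ x]
    show 𝓘.subschemeι.ker ≤ _ ↔ _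
    rw [Scheme.IdealSheafData.ker_subschemeι, iSup_le_iff]
    exact forall_congr' fun j => (hfac (c j) x).symm.trans (hZc j x)
  haveI : IsLocallyNoetherian Z.left := LocallyOfFiniteType.isLocallyNoetherian cZ.left
  obtain ⟨lZ, hlZ⟩ := factors_of_members e hd ((W ◁ cZ) ≫ f) i ((hall cZ).mp ⟨𝟙 _, Category.id_comp _⟩)
  have hmain : ∀ {P : Over S} (x : P ⟶ X), (∃ z : P ⟶ Z, z ≫ cZ = x) ↔ ∃ l : W ⊗ P ⟶ E, l ≫ i = (W ◁ x) ≫ f := by
    intro P x
    constructor
    · rintro ⟨z, rfl⟩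
      exact ⟨(W ◁ z) ≫ lZ, by rw [Category.assoc, hlZ, MonoidalCategory.whiskerLeft_comp_assoc]⟩
    · rintro ⟨l, hl⟩
      exact (hall x).mpr fun j => ⟨(incl e j ▷ P) ≫ l, by rw [Category.assoc, hl]⟩
  refine ⟨Z, cZ, inferInstance, hmain, fun _ hne hdir => ?_⟩
  have hmono : ∀ j m, (∃ a : member e j ⟶ member e m, a ≫ incl e m = incl e j) → (c j).left.ker ≤ (c m).left.ker := by
    rintro j m ⟨a, ha⟩
    refine (hfac (c j) (c m)).mp ((hZc j _).mpr ?_)
    obtain ⟨l, hl⟩ := (hZc m (c m)).mp ⟨𝟙 _, Category.id_comp _⟩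
    exact ⟨(a ▷ Zj m) ≫ l, by rw [Category.assoc, hl, ← comp_whiskerRight_assoc, ha]⟩
  have hdir' : Directed (· ≤ ·) fun j => (c j).left.ker := fun j k => by
    obtain ⟨m, ha, hb⟩ := hdir j k
    exact ⟨m, hmono j m ha, hmono k m hb⟩
  have hU : ∀ U : X.left.affineOpens, ∃ m, 𝓘.ideal U ≤ (c m).left.ker.ideal U := fun U => by
    haveI : IsNoetherianRing Γ(X.left, U) := IsLocallyNoetherian.component_noetherian U
    have heq : 𝓘.ideal U = ⨆ j, (c j).left.ker.ideal U := by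
      show (⨆ j, (c j).left.ker).ideal U = _
      rw [Scheme.IdealSheafData.ideal_iSup, iSup_apply]
    have hd' : Directed (· ≤ ·) fun j => (c j).left.ker.ideal U :=
      fun j k => (hdir' j k).imp fun _ h => ⟨h.1 U, h.2 U⟩
    obtain ⟨_, ⟨m, rfl⟩, hmax⟩ := set_has_maximal_iff_noetherian.mpr inferInstance
      (Set.range fun j => (c j).left.ker.ideal U) (Set.range_nonempty _)
    refine ⟨m, heq.trans_le (iSup_le fun j => ?_)⟩
    obtain ⟨k, hj, hm⟩ := hd' j m
    exact hj.trans (not_lt_iff_le_imp_ge.mp (hmax _ ⟨k, rfl⟩) hm)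
  choose m hm using hU
  obtain ⟨t, ht⟩ := isCompact_univ.elim_finite_subcover (fun U : X.left.affineOpens => (U.1 : Set X.left))
    (fun U => U.1.2) (fun z _ => by
      obtain ⟨U, hU, hz, -⟩ := exists_isAffineOpen_mem_and_subset (show z ∈ (⊤ : X.left.Opens) from trivial)
      exact Set.mem_iUnion.mpr ⟨⟨U, hU⟩, hz⟩)
  obtain ⟨n, hn⟩ := hdir'.finset_le (t.image m)
  have hle : 𝓘 ≤ (c n).left.ker := by
    refine Scheme.IdealSheafData.le_of_iSup_eq_top (fun U : t => U.1) (top_unique fun z _ => ?_) fun U =>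
      (hm U.1).trans (hn _ (Finset.mem_image_of_mem _ U.2) U.1)
    obtain ⟨U, hU, hz⟩ := Set.mem_iUnion₂.mp (ht (Set.mem_univ z))
    exact TopologicalSpace.Opens.mem_iSup.mpr ⟨⟨U, hU⟩, hz⟩
  refine ⟨n, fun {P} x => ⟨fun ⟨l, hl⟩ => ⟨(incl e n ▷ P) ≫ l, by rw [Category.assoc, hl]⟩, fun h => ?_⟩⟩
  refine (hmain x).mp ((hfac cZ x).mpr ?_)
  show 𝓘.subschemeι.ker ≤ _
  rw [Scheme.IdealSheafData.ker_subschemeι]
  exact hle.trans ((hfac (c n) x).mp ((hZc n x).mpr h))

end Groth.Agent.DenseLib
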